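/-
Extensions of a Noetherian local ring by a simple module: the Artinian quotients of the middle ring detect
the kernel, and maps into the middle ring are glued from the projection and a deep enough quotient.
-/
import Groth.Agent.Lib.Exal.Basic
import Mathlib.RingTheory.Filtration
import Mathlib.RingTheory.SimpleModule.Basic
import Mathlib.RingTheory.LocalRing.RingHom.Basic

set_option autoImplicit false
set_option linter.style.haveILetI false

universe u v

open IsLocalRing

noncomputable section

namespace Groth.Agent.ExalLoc3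

open _root_.Exal Exal3L

variable {A : Type u} {R L : Type v} [CommRing A] [CommRing R] [Algebra A R] [IsLocalRing R]
  [AddCommGroup L] [Module R L] (X : Ext A R L)

/-- The maximal ideal of the middle ring. -/
abbrev maxE : Ideal X.E := (maximalIdeal R).comap X.proj

theorem maxE_pow_le (n : ℕ) : maxE X ^ n ≤ (maximalIdeal R ^ n).comap X.proj :=
  Ideal.le_comap_pow _ n

theorem map_maxE_pow (n : ℕ) : (maxE X ^ n).map X.proj = maximalIdeal R ^ n := by
  rw [Ideal.map_pow, Ideal.map_comap_of_surjective _ X.isExtension.proj_surjective]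

theorem exists_mem_maxE_pow {n : ℕ} {r : R} (hr : r ∈ maximalIdeal R ^ n) :
    ∃ e ∈ maxE X ^ n, X.proj e = r :=
  (Ideal.mem_map_iff_of_surjective _ X.isExtension.proj_surjective).1 ((map_maxE_pow X n).symm ▸ hr)

theorem isUnit_of_proj {e : X.E} (h : IsUnit (X.proj e)) : IsUnit e := by
  obtain ⟨r, hr⟩ := h.exists_right_inv
  obtain ⟨f, rfl⟩ := X.isExtension.proj_surjective r
  obtain ⟨z, hz⟩ := exists_incl_eq_sub X (e * f) 1 (by rw [map_mul, hr, map_one])
  refine IsUnit.of_mul_eq_one (f * (1 - X.incl z)) ?_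
  linear_combination -incl_mul_incl X z z - (1 - X.incl z) * hz

theorem isLocalRing : IsLocalRing X.E := by
  haveI : Nontrivial X.E := X.proj.toRingHom.domain_nontrivial
  refine IsLocalRing.of_nonunits_add fun a b ha hb hu => ?_
  have h : IsUnit (X.proj a + X.proj b) := by rw [← map_add]; exact hu.map X.proj
  rcases IsLocalRing.isUnit_or_isUnit_of_isUnit_add h with h | h
  · exact ha (isUnit_of_proj X h)
  · exact hb (isUnit_of_proj X h)

theorem maxE_ne_top : maxE X ≠ ⊤ := Ideal.comap_ne_top _ (maximalIdeal.isMaximal R).ne_top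

theorem eq_maximalIdeal [IsLocalRing X.E] : maximalIdeal X.E = maxE X :=
  ((IsLocalRing.eq_maximalIdeal (Ideal.comap_isMaximal_of_surjective _ X.isExtension.proj_surjective))).symm

theorem isNoetherianRing [IsNoetherianRing R] [Module.Finite R L] : IsNoetherianRing X.E := by
  letI : Module X.E R := Module.compHom R X.proj.toRingHom
  letI : Module X.E L := Module.compHom L X.proj.toRingHom
  haveI : IsNoetherian R L := isNoetherian_of_isNoetherianRing_of_finite R L
  let p : X.E →ₗ[X.E] R :=
    { toFun := X.proj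
      map_add' := map_add _
      map_smul' := fun e x => by rw [smul_eq_mul, map_mul]; rfl }
  let i : L →ₗ[X.E] X.E :=
    { toFun := X.incl
      map_add' := map_add _
      map_smul' := fun e z => (X.isExtension.mul_incl e z).symm }
  haveI : RingHomSurjective (X.proj.toRingHom : X.E →+* R) := ⟨X.isExtension.proj_surjective⟩
  haveI : IsNoetherian X.E R := (LinearMap.isNoetherian_iff_of_bijective
    ({ toFun := id, map_add' := fun _ _ => rfl, map_smul' := fun _ _ => rfl } : R →ₛₗ[X.proj.toRingHom] R)
    Function.bijective_id).2 inferInstance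
  haveI : IsNoetherian X.E L := (LinearMap.isNoetherian_iff_of_bijective
    ({ toFun := id, map_add' := fun _ _ => rfl, map_smul' := fun _ _ => rfl } : L →ₛₗ[X.proj.toRingHom] L)
    Function.bijective_id).2 inferInstance
  exact isNoetherian_of_range_eq_ker i p (Submodule.ext fun x => (X.isExtension.exact x).symm)

theorem smul_eq_zero_of_mem [IsSimpleModule R L] {r : R} (hr : r ∈ maximalIdeal R) (z : L) : r • z = 0 := by
  have h := IsLocalRing.eq_maximalIdeal (IsSimpleModule.annihilator_isMaximal (R := R) (M := L))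
  rw [← h, Module.mem_annihilator] at hr
  exact hr z

theorem mul_incl_eq_zero [IsSimpleModule R L] {e : X.E} (he : e ∈ maxE X) (z : L) : e * X.incl z = 0 := by
  rw [X.isExtension.mul_incl, smul_eq_zero_of_mem he, map_zero]

/-- `N` is deep enough for `X`. -/
def Good (N : ℕ) : Prop := ∀ z : L, X.incl z ∈ maxE X ^ N → z = 0

theorem Good.mono {X : Ext A R L} {N N' : ℕ} (h : Good X N) (hle : N ≤ N') : Good X N' :=
  fun z hz => h z (Ideal.pow_le_pow_right hle hz)

theorem exists_good [IsNoetherianRing R] [IsSimpleModule R L] : ∃ N, Good X N := by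
  haveI : Module.Finite R L := inferInstance
  haveI := isLocalRing X
  haveI := isNoetherianRing X
  have : Nontrivial L := IsSimpleModule.nontrivial R L
  obtain ⟨z₀, hz₀⟩ := exists_ne (0 : L)
  have hinf : ⨅ N, maxE X ^ N = ⊥ := Ideal.iInf_pow_eq_bot_of_isLocalRing _ (maxE_ne_top X)
  have hne : X.incl z₀ ∉ ⨅ N, maxE X ^ N := by
    rw [hinf, Ideal.mem_bot, ← map_zero X.incl]
    exact fun h => hz₀ (X.isExtension.incl_injective h)
  simp only [Submodule.mem_iInf, not_forall] at hne
  obtain ⟨N, hN⟩ := hne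
  refine ⟨N, fun z hz => ?_⟩
  by_contra h
  obtain ⟨r, rfl⟩ := IsSimpleModule.toSpanSingleton_surjective R h z₀
  refine hN ?_
  obtain ⟨e, rfl⟩ := X.isExtension.proj_surjective r
  rw [LinearMap.toSpanSingleton_apply, ← X.isExtension.mul_incl]
  exact Ideal.mul_mem_left _ _ hz

/-- The projection of a quotient of the middle ring. -/
def piBar (N : ℕ) : X.E ⧸ maxE X ^ N →ₐ[A] R ⧸ maximalIdeal R ^ N :=
  Ideal.Quotient.liftₐ _ ((Ideal.Quotient.mkₐ A _).comp X.proj) fun e he =>
    Ideal.Quotient.eq_zero_iff_mem.2 (maxE_pow_le X N he)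

@[simp] theorem piBar_mk (N : ℕ) (e : X.E) :
    piBar X N (Ideal.Quotient.mk _ e) = Ideal.Quotient.mk _ (X.proj e) := rfl

theorem exists_mid {N : ℕ} (r : R) (b : X.E ⧸ maxE X ^ N) (h : piBar X N b = Ideal.Quotient.mk _ r) :
    ∃ e, X.proj e = r ∧ Ideal.Quotient.mk _ e = b := by
  obtain ⟨e, rfl⟩ := Ideal.Quotient.mk_surjective b
  rw [piBar_mk, Ideal.Quotient.eq] at h
  obtain ⟨d, hd, hd'⟩ := exists_mem_maxE_pow X h
  refine ⟨e - d, by rw [map_sub, hd', sub_sub_cancel], Ideal.Quotient.eq.2 ?_⟩
  rw [sub_sub_cancel_left]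
  exact neg_mem hd

theorem mid_unique {N : ℕ} (hN : Good X N) {e e' : X.E} (h : X.proj e = X.proj e')
    (h' : Ideal.Quotient.mk (maxE X ^ N) e = Ideal.Quotient.mk _ e') : e = e' := by
  obtain ⟨z, hz⟩ := exists_incl_eq_sub X e e' h
  rw [← sub_eq_zero, ← hz, hN z (hz ▸ Ideal.Quotient.eq.1 h'), map_zero]

/-- Maps into the middle ring are glued from a map to the base and a map to a deep quotient. -/
theorem exists_lift {N : ℕ} (hN : Good X N) {S : Type*} [CommRing S] [Algebra A S]
    (v : S →ₐ[A] R) (g : S →ₐ[A] X.E ⧸ maxE X ^ N)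
    (h : ∀ s, piBar X N (g s) = Ideal.Quotient.mk _ (v s)) :
    ∃ u : S →ₐ[A] X.E, (∀ s, X.proj (u s) = v s) ∧ ∀ s, Ideal.Quotient.mk (maxE X ^ N) (u s) = g s := by
  choose u hu hu' using fun s => exists_mid X (v s) (g s) (h s)
  have hc : ∀ (s : S) (e : X.E), X.proj e = v s → Ideal.Quotient.mk (maxE X ^ N) e = g s → u s = e :=
    fun s e h1 h2 => mid_unique X hN ((hu s).trans h1.symm) ((hu' s).trans h2.symm)
  exact ⟨{ toFun := u
           map_one' := hc 1 1 (by rw [map_one, map_one]) (by rw [map_one, map_one])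
           map_mul' := fun a b => hc _ _ (by rw [map_mul, map_mul, hu, hu]) (by rw [map_mul, map_mul, hu', hu'])
           map_zero' := hc 0 0 (by rw [map_zero, map_zero]) (by rw [map_zero, map_zero])
           map_add' := fun a b => hc _ _ (by rw [map_add, map_add, hu, hu]) (by rw [map_add, map_add, hu', hu'])
           commutes' := fun a => hc _ _ (by rw [AlgHom.commutes, AlgHom.commutes])
             (by rw [AlgHom.commutes]; rfl) }, hu, hu'⟩

end Groth.Agent.ExalLoc3
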