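/-
The quotients of the completion of a Noetherian local ring by powers of its maximal ideal.
-/
import Mathlib.RingTheory.AdicCompletion.LocalRing
import Mathlib.RingTheory.AdicCompletion.Algebra

set_option autoImplicit false
set_option backward.isDefEq.respectTransparency false

universe u

open IsLocalRing

namespace Groth.Agent.ExalLoc3

variable {R : Type u} [CommRing R] [IsLocalRing R] [IsNoetherianRing R]

local notation "Rh" => AdicCompletion (maximalIdeal R) R

theorem evalₐ_algebraMap (N : ℕ) (a : R) :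
    AdicCompletion.evalₐ (maximalIdeal R) N (algebraMap R Rh a) = Ideal.Quotient.mk _ a :=
  (AdicCompletion.evalₐ (maximalIdeal R) N).commutes a

theorem evalₐ_eq_zero_iff (N : ℕ) (x : Rh) :
    AdicCompletion.evalₐ (maximalIdeal R) N x = 0 ↔ x ∈ maximalIdeal Rh ^ N := by
  have h1 : x ∈ maximalIdeal Rh ^ N ↔ x ∈ (maximalIdeal R ^ N • ⊤ : Submodule R Rh) := by
    rw [Ideal.smul_top_eq_map, Submodule.restrictScalars_mem, Ideal.map_pow, AdicCompletion.maximalIdeal_eq_map]
  rw [h1, AdicCompletion.pow_smul_top_eq_ker_eval (maximalIdeal R).fg_of_isNoetherianRing, LinearMap.mem_ker]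
  have h : (maximalIdeal R ^ N • ⊤ : Ideal R) = maximalIdeal R ^ N := by rw [smul_eq_mul, Ideal.mul_top]
  exact map_eq_zero_iff (Ideal.quotientEquivAlgOfEq R h) (Ideal.quotientEquivAlgOfEq R h).injective

theorem exists_sub_algebraMap_mem (N : ℕ) (x : Rh) :
    ∃ a : R, x - algebraMap R Rh a ∈ maximalIdeal Rh ^ N := by
  obtain ⟨a, ha⟩ := Ideal.Quotient.mk_surjective (AdicCompletion.evalₐ (maximalIdeal R) N x)
  exact ⟨a, (evalₐ_eq_zero_iff N _).1 (by rw [map_sub, evalₐ_algebraMap, ha, sub_self])⟩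

theorem algebraMap_mem_pow_iff (N : ℕ) (a : R) :
    algebraMap R Rh a ∈ maximalIdeal Rh ^ N ↔ a ∈ maximalIdeal R ^ N := by
  rw [← evalₐ_eq_zero_iff, evalₐ_algebraMap, Ideal.Quotient.eq_zero_iff_mem]

end Groth.Agent.ExalLoc3
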